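import Mathlib
import Cfsg.Agent.CharBasics.Extra
import Cfsg.Agent.CharBasics.Central
import Cfsg.Agent.CharBasics.LinearOver
import Cfsg.Agent.OddCoh.Central

/-!
An automorphism of prime order `p` of a `q`-group (`q ≠ p`), fixing every proper invariant subgroup, and an
invariant faithful character of degree at most `p - 1`.
-/

set_option autoImplicit false

namespace CfsgLib.LinGroup

open CfsgLib.CharBasics
open scoped ComplexConjugate commutatorElement

universe u

variable {Q : Type u} [Group Q] [Finite Q] (σ : MulAut Q)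

/-- Composition with `σ` on irreducible characters. -/
noncomputable def tw (θ : Cfsg.IrrCharacter Q) : Cfsg.IrrCharacter Q :=
  ⟨fun a => (θ : Q → ℂ) (σ a), irr_comp_of_surjective θ.2 σ.toMonoidHom σ.surjective⟩

theorem tw_iterate (i : ℕ) (θ : Cfsg.IrrCharacter Q) (a : Q) :
    (((tw σ)^[i] θ : Cfsg.IrrCharacter Q) : Q → ℂ) a = (θ : Q → ℂ) ((σ ^ i) a) := by
  induction i generalizing a with
  | zero => rfl
  | succ i ih =>
    rw [Function.iterate_succ_apply', pow_succ, MulAut.mul_apply]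
    exact ih (σ a)

theorem inner_tw [Fintype Q] {φ : Q → ℂ} (hφ : ∀ a, φ (σ a) = φ a) (θ : Cfsg.IrrCharacter Q) :
    Cfsg.classInner φ (tw σ θ : Q → ℂ) = Cfsg.classInner φ (θ : Q → ℂ) := by
  rw [classInner_eq, classInner_eq]
  congr 1
  refine Fintype.sum_equiv σ.toEquiv _ _ fun a => ?_
  show φ a * conj ((θ : Q → ℂ) (σ a)) = φ (σ a) * conj ((θ : Q → ℂ) (σ a))
  rw [hφ]

theorem inner_tw_iterate [Fintype Q] {φ : Q → ℂ} (hφ : ∀ a, φ (σ a) = φ a) (θ : Cfsg.IrrCharacter Q) (i : ℕ) :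
    Cfsg.classInner φ (((tw σ)^[i] θ : Cfsg.IrrCharacter Q) : Q → ℂ) = Cfsg.classInner φ (θ : Q → ℂ) := by
  induction i with
  | zero => rfl
  | succ i ih => rw [Function.iterate_succ_apply', inner_tw σ hφ, ih]

/-- The degree is at least the sum of the degrees of any set of constituents. -/
theorem sum_degree_le [Fintype Q] {φ : Q → ℂ} (hφ : Cfsg.IsCharacter Q φ) (s : Finset (Cfsg.IrrCharacter Q))
    (hs : ∀ θ ∈ s, Cfsg.classInner φ (θ : Q → ℂ) ≠ 0) :
    ∑ θ ∈ s, Cfsg.charDegree (θ : Q → ℂ) ≤ Cfsg.charDegree φ := by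
  classical
  haveI := Fintype.ofFinite (Cfsg.IrrCharacter Q)
  choose m hm using fun θ : Cfsg.IrrCharacter Q => classInner_character_nat hφ θ
  have h := congrFun (classFun_expand (isClassFunction hφ)) 1
  simp only [Finset.sum_apply, Pi.smul_apply, smul_eq_mul, hm] at h
  rw [apply_one hφ, Finset.sum_congr rfl (fun θ _ => by rw [apply_one (isCharacter_of_irr θ.2), ← Nat.cast_mul]),
    ← Nat.cast_sum, Nat.cast_inj] at h
  rw [h]
  refine le_trans (Finset.sum_le_sum fun θ hθ => ?_) (Finset.sum_le_sum_of_subset (Finset.subset_univ s))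
  refine Nat.le_mul_of_pos_left _ (Nat.pos_of_ne_zero fun h0 => hs θ hθ ?_)
  rw [hm θ, h0, Nat.cast_zero]

/-- A kernel element of every constituent is a kernel element. -/
theorem apply_eq_of_constituents [Fintype Q] {φ : Q → ℂ} (hφ : Cfsg.IsClassFunction Q φ) {a : Q}
    (h : ∀ θ : Cfsg.IrrCharacter Q, Cfsg.classInner φ (θ : Q → ℂ) ≠ 0 → (θ : Q → ℂ) a = (θ : Q → ℂ) 1) :
    φ a = φ 1 := by
  classical
  haveI := Fintype.ofFinite (Cfsg.IrrCharacter Q)
  rw [classFun_expand hφ]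
  simp only [Finset.sum_apply, Pi.smul_apply, smul_eq_mul]
  refine Finset.sum_congr rfl fun θ _ => ?_
  by_cases h0 : Cfsg.classInner φ (θ : Q → ℂ) = 0
  · rw [h0, zero_mul, zero_mul]
  · rw [h θ h0]

/-- `a ↦ σ a * a⁻¹` detects fixed points when its value is fixed. -/
theorem fix_of_diff_fix {p q : ℕ} [Fact p.Prime] [Fact q.Prime] (hqp : q ≠ p) (hQ : IsPGroup q Q)
    (hσp : ∀ a, (σ ^ p) a = a) {a : Q} (hc : σ (σ a * a⁻¹) = σ a * a⁻¹) : σ a = a := by
  set c := σ a * a⁻¹ with hcdef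
  have hi : ∀ i : ℕ, (σ ^ i) a = c ^ i * a := by
    intro i
    induction i with
    | zero => simp
    | succ i ih =>
      rw [pow_succ', MulAut.mul_apply, ih, map_mul, map_pow, hc, pow_succ, mul_assoc, hcdef, inv_mul_cancel_right]
  have h2 : c ^ p = 1 := by
    have h1 := hi p
    rw [hσp] at h1
    exact mul_eq_right.1 h1.symm
  have h3 : c = 1 := by
    obtain ⟨i, hi'⟩ := IsPGroup.iff_card.1 hQ
    refine orderOf_eq_one_iff.1 (Nat.eq_one_of_dvd_coprimes ?_ (orderOf_dvd_of_pow_eq_one h2)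
      (orderOf_dvd_natCard c))
    rw [hi']
    exact Nat.Coprime.pow_right _ ((Nat.coprime_primes Fact.out Fact.out).2 hqp.symm)
  rwa [hcdef, mul_inv_eq_one] at h3

/-- The core of the small degree theorem. -/
theorem small_degree {p q : ℕ} [Fact p.Prime] [Fact q.Prime] (hqp : q ≠ p) (hQ : IsPGroup q Q)
    (hσp : ∀ a, (σ ^ p) a = a) (hne : ∃ a, σ a ≠ a)
    (hmin : ∀ D : Subgroup Q, D ≠ ⊤ → (∀ a ∈ D, σ a ∈ D) → ∀ a ∈ D, σ a = a)
    [Fintype Q] {φ : Q → ℂ} (hφ : Cfsg.IsCharacter Q φ) (hfaith : ∀ a, φ a = φ 1 → a = 1)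
    (hinv : ∀ a, φ (σ a) = φ a) (hn : Cfsg.charDegree φ + 1 ≤ p) :
    ∃ θ : Cfsg.IrrCharacter Q, Cfsg.classInner φ (θ : Q → ℂ) ≠ 0 ∧
      Cfsg.charDegree (θ : Q → ℂ) = Cfsg.charDegree φ ∧ Cfsg.charDegree φ + 1 = p ∧
      ∃ k, Cfsg.charDegree φ = 2 ^ k := by
  classical
  have hp : p.Prime := Fact.out
  -- `σ` fixes all the constituents
  have hfix : ∀ θ : Cfsg.IrrCharacter Q, Cfsg.classInner φ (θ : Q → ℂ) ≠ 0 → tw σ θ = θ := by
    intro θ hθ
    by_contra hne'
    have hper : Function.IsPeriodicPt (tw σ) p θ := Subtype.ext (funext fun a => by rw [tw_iterate, hσp])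
    have hmp := Function.minimalPeriod_eq_prime hper hne'
    have hinj : Set.InjOn (fun i => (tw σ)^[i] θ) (↑(Finset.range p) : Set ℕ) := by
      intro i hi j hj he
      exact Function.iterate_injOn_Iio_minimalPeriod (by simpa [hmp] using hi) (by simpa [hmp] using hj) he
    have h := sum_degree_le hφ ((Finset.range p).image fun i => (tw σ)^[i] θ) (fun η hη => by
      obtain ⟨i, -, rfl⟩ := Finset.mem_image.1 hη
      rwa [inner_tw_iterate σ hinv])
    rw [Finset.sum_image hinj] at h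
    have h1 : p ≤ ∑ i ∈ Finset.range p, Cfsg.charDegree (((tw σ)^[i] θ : Cfsg.IrrCharacter Q) : Q → ℂ) := by
      calc p = ∑ _i ∈ Finset.range p, 1 := by simp
        _ ≤ _ := Finset.sum_le_sum fun i _ => charDegree_pos ((tw σ)^[i] θ).2
    omega
  -- `Q` is generated by the elements `σ a * a⁻¹`
  set D₀ := Subgroup.closure (Set.range fun a => σ a * a⁻¹) with hD₀
  have hD₀top : D₀ = ⊤ := by
    by_contra h
    obtain ⟨a, ha⟩ := hne
    refine ha (fix_of_diff_fix σ hqp hQ hσp (hmin D₀ h (fun b hb => ?_) _ (Subgroup.subset_closure ⟨a, rfl⟩)))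
    have : D₀.map σ.toMonoidHom ≤ D₀ := by
      rw [hD₀, MonoidHom.map_closure, Subgroup.closure_le]
      rintro _ ⟨_, ⟨c, rfl⟩, rfl⟩
      exact Subgroup.subset_closure ⟨σ c, by simp⟩
    exact this (Subgroup.mem_map_of_mem _ hb)
  obtain ⟨a₀, ha₀⟩ := hne
  haveI : Nontrivial Q := ⟨⟨σ a₀, a₀, ha₀⟩⟩
  haveI := hQ.isNilpotent
  -- the commutator subgroup is fixed and central
  have hcomfix : ∀ a ∈ commutator Q, σ a = a := by
    refine hmin _ (Group.IsSolvable.commutator_lt_top_of_nontrivial Q).ne fun a ha => ?_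
    haveI : (commutator Q).Characteristic := inferInstance
    have h := Subgroup.characteristic_iff_map_le.1 ‹(commutator Q).Characteristic› σ
    exact h (Subgroup.mem_map_of_mem _ ha)
  have hcom : commutator Q ≤ Subgroup.center Q := by
    intro z hz
    rw [Subgroup.mem_center_iff]
    intro g
    suffices D₀ ≤ Subgroup.centralizer ({z} : Set Q) from
      Subgroup.mem_centralizer_singleton_iff.1 (this (hD₀top ▸ Subgroup.mem_top g))
    rw [hD₀, Subgroup.closure_le]
    rintro _ ⟨a, rfl⟩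
    rw [SetLike.mem_coe, Subgroup.mem_centralizer_singleton_iff]
    have h1 := hcomfix _ ((inferInstance : (commutator Q).Normal).conj_mem z hz a)
    have h2 := hcomfix _ ((inferInstance : (commutator Q).Normal).conj_mem _
      ((inferInstance : (commutator Q).Normal).conj_mem z hz a) (σ a * a⁻¹))
    rw [map_mul, map_mul, map_inv, hcomfix z hz] at h1
    have h3 := (inferInstance : (commutator Q).Normal).conj_mem z hz (a⁻¹ * σ a)
    have h4 : (a⁻¹ * σ a) * z = z * (a⁻¹ * σ a) := by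
      calc (a⁻¹ * σ a) * z = a⁻¹ * (σ a * z * (σ a)⁻¹) * σ a := by group
        _ = a⁻¹ * (a * z * a⁻¹) * σ a := by rw [h1]
        _ = z * (a⁻¹ * σ a) := by group
    have h5 := congrArg σ ((show z * a = a * (a⁻¹ * z * a) by group))
    have h6 := hcomfix _ ((inferInstance : (commutator Q).Normal).conj_mem z hz a⁻¹)
    rw [inv_inv] at h6
    rw [map_mul, map_mul, hcomfix z hz, h6] at h5
    calc σ a * a⁻¹ * z = σ a * (a⁻¹ * z * a) * a⁻¹ := by group
      _ = z * σ a * a⁻¹ := by rw [← h5]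
      _ = z * (σ a * a⁻¹) := mul_assoc _ _ _
  -- a nonlinear constituent
  obtain ⟨θ, hθ, hθnl⟩ : ∃ θ : Cfsg.IrrCharacter Q, Cfsg.classInner φ (θ : Q → ℂ) ≠ 0 ∧
      Cfsg.charDegree (θ : Q → ℂ) ≠ 1 := by
    by_contra hc
    push Not at hc
    have hall : ∀ a, σ a * a⁻¹ = 1 := fun a => hfaith _ (apply_eq_of_constituents (isClassFunction hφ)
      fun θ hθ => by
        have hmul : ∀ x y, (θ : Q → ℂ) (x * y) = (θ : Q → ℂ) x * (θ : Q → ℂ) y := fun x y => by
          simp only [← linHomOf_apply θ (hc θ hθ), map_mul]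
        have h1 : (θ : Q → ℂ) (σ a) = (θ : Q → ℂ) a := congrFun (congrArg Subtype.val (hfix θ hθ)) a
        rw [hmul, h1, ← hmul, mul_inv_cancel])
    exact ha₀ (mul_inv_eq_one.1 (hall a₀))
  refine ⟨θ, hθ, ?_⟩
  have hσθ : ∀ a, (θ : Q → ℂ) (σ a) = (θ : Q → ℂ) a := fun a =>
    congrFun (congrArg Subtype.val (hfix θ hθ)) a
  set N := charKer (θ : Q → ℂ) (isCharacter_of_irr θ.2) with hNdef
  haveI : N.Normal := charKer_normal _
  obtain ⟨ψ, hψ⟩ := exists_quotient_irr θ N fun g hg => hg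
  set Z := (Subgroup.center (Q ⧸ N)).comap (QuotientGroup.mk' N) with hZ
  have hmemZ : ∀ x : Q, x ∈ Z ↔ ∀ a : Q, ⁅a, x⁆ ∈ N := fun x => by
    rw [hZ, Subgroup.mem_comap, Subgroup.mem_center_iff]
    constructor
    · intro h a
      refine (QuotientGroup.eq_one_iff _).1 ?_
      show QuotientGroup.mk' N ⁅a, x⁆ = 1
      rw [map_commutatorElement, commutatorElement_eq_one_iff_mul_comm]
      exact h _
    · intro h y
      obtain ⟨a, rfl⟩ := QuotientGroup.mk'_surjective N y
      rw [← commutatorElement_eq_one_iff_mul_comm, ← map_commutatorElement]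
      exact (QuotientGroup.eq_one_iff _).2 (h a)
  -- `θ` vanishes off `Z`
  have hoff : ∀ x, x ∉ Z → (θ : Q → ℂ) x = 0 := by
    intro x hx
    rw [hmemZ] at hx
    push Not at hx
    obtain ⟨a, ha⟩ := hx
    have hc := hcom (commutator_def Q ▸ Subgroup.commutator_mem_commutator (Subgroup.mem_top a) (Subgroup.mem_top x))
    have h1 := center_mul θ.2 hc x
    have h2 : ⁅a, x⁆ * x = a * x * a⁻¹ := by simp only [commutatorElement_def]; group
    rw [h2, isClassFunction (isCharacter_of_irr θ.2) x a] at h1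
    by_contra h0
    exact ha ((mem_charKer _ _).2 (mul_right_cancel₀ h0 h1).symm)
  -- the square of the degree is the index of `Z`
  have hsq : Cfsg.charDegree (θ : Q → ℂ) ^ 2 = Z.index := by
    haveI : Fintype (Q ⧸ N) := Fintype.ofFinite _
    have hd : Cfsg.charDegree (ψ : Q ⧸ N → ℂ) = Cfsg.charDegree (θ : Q → ℂ) := by
      rw [← @Nat.cast_inj ℂ, ← apply_one (isCharacter_of_irr ψ.2), ← apply_one (isCharacter_of_irr θ.2)]
      exact hψ 1
    have h := sum_normSq_irr θ
    rw [← Finset.sum_subset (Finset.subset_univ (Finset.univ.filter fun a : Q => a ∈ Z))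
      (fun a _ ha => by rw [hoff a (by simpa using ha), norm_zero]; norm_num),
      Finset.sum_congr rfl (fun a ha => by
        rw [← hψ a, CfsgLib.OddCoh.norm_apply_central (Subgroup.center (Q ⧸ N)) le_rfl ψ
          (show (a : Q ⧸ N) ∈ Subgroup.center (Q ⧸ N) from (Finset.mem_filter.1 ha).2), hd]),
      Finset.sum_const, nsmul_eq_mul] at h
    have e : (Finset.univ.filter fun a : Q => a ∈ Z).card = Nat.card Z := by
      rw [Nat.card_eq_fintype_card, Fintype.card_subtype]
    rw [e] at h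
    have h' : Nat.card Z * Cfsg.charDegree (θ : Q → ℂ) ^ 2 = Nat.card Q := by exact_mod_cast h
    rw [← Z.card_mul_index] at h'
    exact Nat.eq_of_mul_eq_mul_left Nat.card_pos h'
  have hd1 : 1 < Cfsg.charDegree (θ : Q → ℂ) := by have := charDegree_pos θ.2; omega
  have hZtop : Z ≠ ⊤ := fun h => by
    rw [h, Subgroup.index_top] at hsq
    nlinarith
  -- the fixed points of `σ` are exactly `Z`
  have hZfix : ∀ a ∈ Z, σ a = a := by
    refine hmin Z hZtop fun x hx => ?_
    rw [hmemZ] at hx ⊢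
    intro a
    have h1 := (mem_charKer _ _).1 (hx (σ.symm a))
    rw [← hσθ, map_commutatorElement, MulEquiv.apply_symm_apply] at h1
    exact (mem_charKer _ _).2 h1
  have hfixZ : ∀ a, σ a = a → a ∈ Z := by
    intro a ha
    refine (hmemZ a).2 fun b => ?_
    suffices D₀ ≤ Subgroup.centralizer ({a} : Set Q) by
      have h := Subgroup.mem_centralizer_singleton_iff.1 (this (hD₀top ▸ Subgroup.mem_top b))
      rw [commutatorElement_eq_one_iff_mul_comm.2 h]
      exact N.one_mem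
    rw [hD₀, Subgroup.closure_le]
    rintro _ ⟨c, rfl⟩
    rw [SetLike.mem_coe, Subgroup.mem_centralizer_singleton_iff, ← commutatorElement_eq_one_iff_mul_comm]
    have hc1 : ⁅σ c, a⁆ = ⁅c, a⁆ := by
      conv_lhs => rw [← ha, ← map_commutatorElement]
      exact hcomfix _ (commutator_def Q ▸ Subgroup.commutator_mem_commutator (Subgroup.mem_top c) (Subgroup.mem_top a))
    have hz := Subgroup.mem_center_iff.1 (hcom (commutator_def Q ▸
      Subgroup.commutator_mem_commutator (Subgroup.mem_top c⁻¹) (Subgroup.mem_top a))) (σ c)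
    have e1 : ⁅σ c * c⁻¹, a⁆ = σ c * ⁅c⁻¹, a⁆ * (σ c)⁻¹ * ⁅σ c, a⁆ := by
      simp only [commutatorElement_def]; group
    have hzc := Subgroup.mem_center_iff.1 (hcom (commutator_def Q ▸
      Subgroup.commutator_mem_commutator (Subgroup.mem_top c⁻¹) (Subgroup.mem_top a))) c
    have e2 : c * ⁅c⁻¹, a⁆ * c⁻¹ = ⁅c, a⁆⁻¹ := by simp only [commutatorElement_def]; group
    rw [e1, hz, mul_inv_cancel_right, hc1]
    rw [hzc, mul_inv_cancel_right] at e2
    rw [e2, inv_mul_cancel]
  -- counting orbits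
  have hdvd : p ∣ Z.index - 1 := by
    haveI hP : IsPGroup p (Subgroup.zpowers σ) := by
      obtain ⟨i, -, hi⟩ := (Nat.dvd_prime_pow hp).1 ((pow_one p).symm ▸
        orderOf_dvd_of_pow_eq_one (MulEquiv.ext hσp : σ ^ p = 1))
      exact IsPGroup.of_card (n := i) (by rw [Nat.card_zpowers, hi])
    have h := hP.card_modEq_card_fixedPoints Q
    have hset : MulAction.fixedPoints (Subgroup.zpowers σ) Q = (Z : Set Q) := by
      ext a
      refine ⟨fun h => hfixZ a (h ⟨σ, Subgroup.mem_zpowers σ⟩), fun h g => ?_⟩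
      have hmem : (g : MulAut Q) ∈ MulAction.stabilizer (MulAut Q) a :=
        (Subgroup.zpowers_le.2 (show σ ∈ MulAction.stabilizer (MulAut Q) a from hZfix a h)) g.2
      exact hmem
    rw [hset] at h
    have hle : Nat.card Z ≤ Nat.card Q := Subgroup.card_le_card_group Z
    have h2 := (Nat.modEq_iff_dvd' hle).1 h.symm
    rw [← Z.card_mul_index, ← Nat.mul_sub_one] at h2
    refine (Nat.Coprime.dvd_of_dvd_mul_left ?_ h2)
    obtain ⟨i, hi⟩ := IsPGroup.iff_card.1 (hQ.to_subgroup Z)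
    rw [hi]
    exact Nat.Coprime.pow_right _ ((Nat.coprime_primes hp Fact.out).2 hqp.symm)
  have hle : Cfsg.charDegree (θ : Q → ℂ) ≤ Cfsg.charDegree φ := by
    simpa using sum_degree_le hφ {θ} (fun η hη => by rw [Finset.mem_singleton.1 hη]; exact hθ)
  set d := Cfsg.charDegree (θ : Q → ℂ) with hd
  have hp' : p ≤ d + 1 := by
    obtain ⟨e, he⟩ : ∃ e, d = e + 2 := ⟨d - 2, by omega⟩
    rw [← hsq, show d ^ 2 - 1 = (d + 1) * (d - 1) by simpa using Nat.sq_sub_sq d 1]
      at hdvd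
    rcases hp.dvd_mul.1 hdvd with h | h
    · exact Nat.le_of_dvd (by omega) h
    · exact (Nat.le_of_dvd (by omega) h).trans (by omega)
  refine ⟨by omega, by omega, ?_⟩
  obtain ⟨i, hi⟩ := IsPGroup.iff_card.1 hQ
  obtain ⟨k, -, hk⟩ := (Nat.dvd_prime_pow (Fact.out : q.Prime)).1 (hi ▸ degree_dvd θ)
  rw [← hd] at hk
  have hq2 : q = 2 := by
    by_contra hq
    have hqodd : Odd q := (Fact.out : q.Prime).odd_of_ne_two hq
    have h1 : Odd d := hk ▸ hqodd.pow
    have h2 : p ≠ 2 := by omega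
    obtain ⟨a, ha⟩ := hp.odd_of_ne_two h2
    obtain ⟨b, hb⟩ := h1
    omega
  exact ⟨k, by rw [← hq2, ← hk]; omega⟩

end CfsgLib.LinGroup
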