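import Mathlib
import Cfsg.Agent.LinGroup.SmallDegree
import Cfsg.Agent.Clifford.Basic
import Cfsg.Agent.Hall.Fitting
import Cfsg.Agent.Hall.StructBatch

/-!
Solvable linear groups with a Sylow subgroup that is not normal: the degree is divisible by a prime power
congruent to `-1`, `0` or `1`.
-/

set_option autoImplicit false
set_option linter.style.haveILetI false

namespace CfsgLib.LinGroup

open CfsgLib.CharBasics
open scoped commutatorElement

universe u

/-- The conclusion. -/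
def Good (n p : ℕ) : Prop :=
  ∃ q : ℕ, IsPrimePow q ∧ q ∣ n ∧ ((q : ℤ) ≡ -1 [ZMOD p] ∨ (q : ℤ) ≡ 0 [ZMOD p] ∨ (q : ℤ) ≡ 1 [ZMOD p])

theorem Good.of_dvd {m n p : ℕ} (h : Good m p) (hmn : m ∣ n) : Good n p := by
  obtain ⟨q, h1, h2, h3⟩ := h
  exact ⟨q, h1, h2.trans hmn, h3⟩

theorem good_of_self {n p : ℕ} (hp : p.Prime) (h : p ∣ n) : Good n p :=
  ⟨p, hp.isPrimePow, h, Or.inr (Or.inl (Int.modEq_zero_iff_dvd.2 dvd_rfl))⟩

theorem good_of_sub_one {n p q i : ℕ} (hq : q.Prime) (hi : 0 < i) (hn : q ^ i ∣ n) (h : p ∣ q ^ i - 1) :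
    Good n p := by
  refine ⟨q ^ i, hq.isPrimePow.pow (by omega), hn, Or.inr (Or.inr ?_)⟩
  have h1 : 1 ≤ q ^ i := Nat.one_le_pow _ _ hq.pos
  have h2 := ((Nat.modEq_iff_dvd' h1).2 h).symm
  exact_mod_cast Int.natCast_modEq_iff.2 h2

theorem good_of_sq_sub_one {n p q k : ℕ} (hp : p.Prime) (hq : q.Prime) (hk : 0 < k) (hn : q ^ k ∣ n)
    (h : p ∣ (q ^ k) ^ 2 - 1) : Good n p := by
  rw [show (q ^ k) ^ 2 - 1 = (q ^ k + 1) * (q ^ k - 1) by simpa using Nat.sq_sub_sq (q ^ k) 1] at h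
  rcases hp.dvd_mul.1 h with h | h
  · refine ⟨q ^ k, hq.isPrimePow.pow (by omega), hn, Or.inl ?_⟩
    rw [Int.modEq_iff_dvd]
    have h2 : (p : ℤ) ∣ ((q ^ k + 1 : ℕ) : ℤ) := Int.natCast_dvd_natCast.2 h
    rw [← dvd_neg]
    simpa [add_comm] using h2
  · exact good_of_sub_one hq hk hn h

/-- Orbits of an automorphism of prime order outside a subgroup consisting of its fixed points. -/
theorem orbit_dvd {Q : Type u} [Group Q] [Finite Q] (σ : MulAut Q) {p q : ℕ} [Fact p.Prime] [Fact q.Prime]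
    (hqp : q ≠ p) (hQ : IsPGroup q Q) (hσp : ∀ a, (σ ^ p) a = a) (C : Subgroup Q)
    (hC : ∀ a, σ a = a ↔ a ∈ C) : p ∣ C.index - 1 := by
  have hp : p.Prime := Fact.out
  haveI hP : IsPGroup p (Subgroup.zpowers σ) := by
    obtain ⟨i, -, hi⟩ := (Nat.dvd_prime_pow hp).1 ((pow_one p).symm ▸
      orderOf_dvd_of_pow_eq_one (MulEquiv.ext hσp : σ ^ p = 1))
    exact IsPGroup.of_card (n := i) (by rw [Nat.card_zpowers, hi])
  have h := hP.card_modEq_card_fixedPoints Q
  have hset : MulAction.fixedPoints (Subgroup.zpowers σ) Q = (C : Set Q) := by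
    ext a
    refine ⟨fun h => (hC a).1 (h ⟨σ, Subgroup.mem_zpowers σ⟩), fun h g => ?_⟩
    have hmem : (g : MulAut Q) ∈ MulAction.stabilizer (MulAut Q) a :=
      (Subgroup.zpowers_le.2 (show σ ∈ MulAction.stabilizer (MulAut Q) a from (hC a).2 h)) g.2
    exact hmem
  rw [hset] at h
  have hle : Nat.card C ≤ Nat.card Q := Subgroup.card_le_card_group C
  have h2 := (Nat.modEq_iff_dvd' hle).1 h.symm
  rw [← C.card_mul_index, ← Nat.mul_sub_one] at h2
  refine Nat.Coprime.dvd_of_dvd_mul_left ?_ h2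
  obtain ⟨i, hi⟩ := IsPGroup.iff_card.1 (hQ.to_subgroup C)
  rw [hi]
  exact Nat.Coprime.pow_right _ ((Nat.coprime_primes hp Fact.out).2 hqp.symm)

/-- The restriction of an automorphism to an invariant subgroup. -/
noncomputable def restrictAut {Q : Type u} [Group Q] [Finite Q] (σ : MulAut Q) (A : Subgroup Q)
    (hA : ∀ a ∈ A, σ a ∈ A) : MulAut A :=
  MulEquiv.ofBijective
    ({ toFun := fun a => ⟨σ a, hA a a.2⟩, map_one' := Subtype.ext (map_one σ),
       map_mul' := fun a b => Subtype.ext (map_mul σ (a : Q) b) } : A →* A)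
    (Finite.injective_iff_bijective.1 fun a b h => Subtype.ext (σ.injective (congrArg Subtype.val h)))

theorem restrictAut_apply {Q : Type u} [Group Q] [Finite Q] (σ : MulAut Q) (A : Subgroup Q)
    (hA : ∀ a ∈ A, σ a ∈ A) (a : A) : (restrictAut σ A hA a : Q) = σ a := rfl

theorem restrictAut_pow_apply {Q : Type u} [Group Q] [Finite Q] (σ : MulAut Q) (A : Subgroup Q)
    (hA : ∀ a ∈ A, σ a ∈ A) (i : ℕ) (a : A) : ((restrictAut σ A hA ^ i) a : Q) = (σ ^ i) a := by
  induction i with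
  | zero => rfl
  | succ i ih => rw [pow_succ', pow_succ', MulAut.mul_apply, MulAut.mul_apply, restrictAut_apply, ih]

/-- In an abelian group: a subgroup without fixed points. -/
theorem exists_free {Q : Type u} [Group Q] [Finite Q] (σ : MulAut Q) {p q : ℕ} [Fact p.Prime] [Fact q.Prime]
    (hqp : q ≠ p) (hQ : IsPGroup q Q) (hab : ∀ a b : Q, a * b = b * a) (hσp : ∀ a, (σ ^ p) a = a)
    (hne : ∃ a, σ a ≠ a) :
    ∃ A : Subgroup Q, A ≠ ⊥ ∧ (∀ a ∈ A, σ a = a → a = 1) ∧ p ∣ Nat.card A - 1 := by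
  let A : Subgroup Q :=
    { carrier := Set.range fun a => σ a * a⁻¹
      one_mem' := ⟨1, by simp⟩
      mul_mem' := by
        rintro _ _ ⟨a, rfl⟩ ⟨b, rfl⟩
        refine ⟨a * b, ?_⟩
        simp only [map_mul, mul_inv_rev]
        rw [hab b⁻¹ a⁻¹, mul_assoc, ← mul_assoc (σ b), hab (σ b) a⁻¹, mul_assoc a⁻¹, ← mul_assoc]
      inv_mem' := by
        rintro _ ⟨a, rfl⟩
        refine ⟨a⁻¹, ?_⟩
        simp only [map_inv, mul_inv_rev, inv_inv]
        exact hab _ _ }
  have hfree : ∀ a ∈ A, σ a = a → a = 1 := by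
    rintro _ ⟨b, rfl⟩ h
    show σ b * b⁻¹ = 1
    rw [fix_of_diff_fix σ hqp hQ hσp h, mul_inv_cancel]
  refine ⟨A, ?_, hfree, ?_⟩
  · obtain ⟨a, ha⟩ := hne
    intro hA
    have : σ a * a⁻¹ ∈ A := ⟨a, rfl⟩
    rw [hA, Subgroup.mem_bot, mul_inv_eq_one] at this
    exact ha this
  · have hinv : ∀ a ∈ A, σ a ∈ A := by
      rintro _ ⟨b, rfl⟩
      exact ⟨σ b, by simp⟩
    have h := orbit_dvd (restrictAut σ A hinv) hqp (hQ.to_subgroup A)
      (fun a => Subtype.ext (by rw [restrictAut_pow_apply, hσp])) ⊥ (fun a => ⟨fun h => by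
        rw [Subgroup.mem_bot]
        exact Subtype.ext (hfree a a.2 (by rw [← restrictAut_apply σ A hinv a, h])), fun h => by
        rw [Subgroup.mem_bot.1 h, map_one]⟩)
    rwa [Subgroup.index_bot] at h

/-- An irreducible character of a class two group, faithful on the commutator subgroup. -/
theorem degree_sq_eq {Q : Type u} [Group Q] [Fintype Q] (hcl : commutator Q ≤ Subgroup.center Q)
    (θ : Cfsg.IrrCharacter Q) (hk : ∀ c ∈ commutator Q, (θ : Q → ℂ) c = (θ : Q → ℂ) 1 → c = 1) :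
    Cfsg.charDegree (θ : Q → ℂ) ^ 2 = (Subgroup.center Q).index := by
  classical
  have hoff : ∀ x, x ∉ Subgroup.center Q → (θ : Q → ℂ) x = 0 := by
    intro x hx
    rw [Subgroup.mem_center_iff] at hx
    push Not at hx
    obtain ⟨a, ha⟩ := hx
    have hcm : ⁅a, x⁆ ∈ commutator Q :=
      commutator_def Q ▸ Subgroup.commutator_mem_commutator (Subgroup.mem_top a) (Subgroup.mem_top x)
    have h1 := center_mul θ.2 (hcl hcm) x
    have h2 : ⁅a, x⁆ * x = a * x * a⁻¹ := by simp only [commutatorElement_def]; group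
    rw [h2, isClassFunction (isCharacter_of_irr θ.2) x a] at h1
    by_contra h0
    exact ha (commutatorElement_eq_one_iff_mul_comm.1 (hk _ hcm (mul_right_cancel₀ h0 h1).symm))
  have h := sum_normSq_irr θ
  rw [← Finset.sum_subset (Finset.subset_univ (Finset.univ.filter fun a : Q => a ∈ Subgroup.center Q))
    (fun a _ ha => by rw [hoff a (by simpa using ha), norm_zero]; norm_num),
    Finset.sum_congr rfl (fun a ha => by
      rw [CfsgLib.OddCoh.norm_apply_central (Subgroup.center Q) le_rfl θ (Finset.mem_filter.1 ha).2]),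
    Finset.sum_const, nsmul_eq_mul] at h
  have e : (Finset.univ.filter fun a : Q => a ∈ Subgroup.center Q).card = Nat.card (Subgroup.center Q) := by
    rw [Nat.card_eq_fintype_card, Fintype.card_subtype]
  rw [e] at h
  have h' : Nat.card (Subgroup.center Q) * Cfsg.charDegree (θ : Q → ℂ) ^ 2 = Nat.card Q := by exact_mod_cast h
  rw [← (Subgroup.center Q).card_mul_index] at h'
  exact Nat.eq_of_mul_eq_mul_left Nat.card_pos h'

/-- The class two step. -/
theorem good_classTwo {Q : Type u} [Group Q] [Fintype Q] (σ : MulAut Q) {p q : ℕ} [Fact p.Prime] [Fact q.Prime]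
    (hqp : q ≠ p) (hQ : IsPGroup q Q) (hcl : commutator Q ≤ Subgroup.center Q)
    (hfixZ : ∀ z ∈ Subgroup.center Q, σ z = z) (hσp : ∀ a, (σ ^ p) a = a) (hne : ∃ a, σ a ≠ a)
    (θ : Cfsg.IrrCharacter Q) (hfaith : ∀ a, (θ : Q → ℂ) a = (θ : Q → ℂ) 1 → a = 1) :
    Good (Cfsg.charDegree (θ : Q → ℂ)) p := by
  classical
  have hsq := degree_sq_eq hcl θ fun c _ h => hfaith c h
  obtain ⟨i, hi⟩ := IsPGroup.iff_card.1 hQ
  obtain ⟨m, -, hm⟩ := (Nat.dvd_prime_pow (Fact.out : q.Prime)).1 (hi ▸ degree_dvd θ)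
  -- a minimal invariant subgroup that is not fixed
  obtain ⟨Q₂, ⟨hinv, a₀, ha₀, ha₀ne⟩, hmin⟩ := (Set.toFinite {D : Subgroup Q | (∀ a ∈ D, σ a ∈ D) ∧
      ∃ a ∈ D, σ a ≠ a}).exists_minimal
    ⟨⊤, fun a _ => Subgroup.mem_top _, by obtain ⟨a, ha⟩ := hne; exact ⟨a, Subgroup.mem_top a, ha⟩⟩
  set τ := restrictAut σ Q₂ hinv with hτ
  have hτp : ∀ a, (τ ^ p) a = a := fun a => Subtype.ext (by rw [hτ, restrictAut_pow_apply, hσp])
  have hτne : ∃ a, τ a ≠ a := ⟨⟨a₀, ha₀⟩, fun h => ha₀ne (congrArg Subtype.val h)⟩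
  have hcomfix : ∀ a ∈ commutator Q, σ a = a := fun a ha => hfixZ a (hcl ha)
  by_cases hab : ∀ a b : Q₂, a * b = b * a
  · obtain ⟨A, hA1, hfree, hdvd⟩ := exists_free τ hqp (hQ.to_subgroup Q₂) hab hτp hτne
    set A' := A.map Q₂.subtype with hA'
    have hcard : Nat.card A' = Nat.card A := Subgroup.card_map_of_injective Q₂.subtype_injective
    have hinf : Subgroup.center Q ⊓ A' = ⊥ := by
      rw [eq_bot_iff]
      rintro _ ⟨hz, a, ha, rfl⟩
      rw [Subgroup.mem_bot, hfree a ha (Subtype.ext (hfixZ _ hz))]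
      rfl
    set B := A' ⊔ Subgroup.center Q with hB
    haveI : IsMulCommutative B := by
      refine ⟨⟨fun x y => Subtype.ext ?_⟩⟩
      obtain ⟨_, ⟨a, -, rfl⟩, z, hz, hx⟩ := Subgroup.mem_sup_of_normal_right.1 x.2
      obtain ⟨_, ⟨b, -, rfl⟩, w, hw, hy⟩ := Subgroup.mem_sup_of_normal_right.1 y.2
      show (x : Q) * y = y * x
      have hcab : Commute (a : Q) (b : Q) := congrArg Subtype.val (hab a b)
      have hcz : ∀ t, Commute z t := fun t => (Subgroup.mem_center_iff.1 hz t).symm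
      have hcw : ∀ t, Commute w t := fun t => (Subgroup.mem_center_iff.1 hw t).symm
      rw [← hx, ← hy]
      exact ((hcab.mul_right (hcw _).symm).mul_left ((hcz _).mul_right (hcz w))).eq
    have hle := degree_le_index_of_comm B θ
    have h2 : (Subgroup.center Q).relIndex B = Nat.card A' := by
      rw [hB, Subgroup.relIndex_sup_right, ← Subgroup.inf_relIndex_right, hinf, Subgroup.relIndex_bot_left]
    have h3 := Subgroup.relIndex_mul_index (le_sup_right : Subgroup.center Q ≤ B)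
    rw [h2, ← hsq] at h3
    obtain ⟨j, hj⟩ := IsPGroup.iff_card.1 ((hQ.to_subgroup Q₂).to_subgroup A)
    rw [hcard, hj] at h3
    have hd0 := charDegree_pos θ.2
    have hle' : q ^ j ≤ Cfsg.charDegree (θ : Q → ℂ) := by
      by_contra hc
      push Not at hc
      have := Nat.mul_lt_mul_of_lt_of_le hc hle (Nat.pos_of_ne_zero Subgroup.index_ne_zero_of_finite)
      nlinarith
    have hj0 : 0 < j := Nat.pos_of_ne_zero fun h => hA1 (Subgroup.card_eq_one.1 (by rw [hj, h, pow_zero]))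
    rw [hm] at hle'
    refine good_of_sub_one (Fact.out : q.Prime) hj0 ?_ (hj ▸ hdvd)
    rw [hm]
    exact Nat.pow_dvd_pow q ((Nat.pow_le_pow_iff_right (Fact.out : q.Prime).one_lt).1 hle')
  · push Not at hab
    -- `Q₂` is generated by the elements `σ a * a⁻¹`
    have hfixmin : ∀ D : Subgroup Q, D < Q₂ → (∀ a ∈ D, σ a ∈ D) → ∀ a ∈ D, σ a = a := fun D hD hDi a ha => by
      by_contra h
      exact hD.not_ge (hmin (y := D) ⟨hDi, a, ha, h⟩ hD.le)
    have hcenfix : ∀ a ∈ Subgroup.center Q₂, τ a = a := by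
      intro a ha
      have hlt : (Subgroup.center Q₂).map Q₂.subtype < Q₂ := lt_of_le_of_ne (Subgroup.map_subtype_le _) fun he => by
        obtain ⟨x, y, hxy⟩ := hab
        have htop : Subgroup.center Q₂ = ⊤ := Subgroup.map_injective Q₂.subtype_injective (by
          rw [he, ← MonoidHom.range_eq_map, Subgroup.range_subtype])
        exact hxy (Subgroup.mem_center_iff.1 (htop ▸ Subgroup.mem_top y) x)
      refine Subtype.ext (hfixmin _ hlt ?_ a (Subgroup.mem_map_of_mem _ ha))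
      rintro _ ⟨b, hb, rfl⟩
      refine ⟨τ b, ?_, rfl⟩
      have h := Subgroup.characteristic_iff_map_le.1 (inferInstance : (Subgroup.center Q₂).Characteristic) τ
      exact h (Subgroup.mem_map_of_mem _ hb)
    have hgen : Subgroup.closure (Set.range fun a => τ a * a⁻¹) = ⊤ := by
      by_contra h
      obtain ⟨a, ha⟩ := hτne
      have hlt : (Subgroup.closure (Set.range fun a => τ a * a⁻¹)).map Q₂.subtype < Q₂ :=
        lt_of_le_of_ne (Subgroup.map_subtype_le _) fun he => h (Subgroup.map_injective Q₂.subtype_injective (by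
          rw [he, ← MonoidHom.range_eq_map, Subgroup.range_subtype]))
      refine ha (fix_of_diff_fix τ hqp (hQ.to_subgroup Q₂) hτp (Subtype.ext (hfixmin _ hlt ?_ _
        (Subgroup.mem_map_of_mem _ (Subgroup.subset_closure (Set.mem_range_self a))))))
      rintro _ ⟨b, hb, rfl⟩
      refine ⟨τ b, ?_, rfl⟩
      have : (Subgroup.closure (Set.range fun a => τ a * a⁻¹)).map τ.toMonoidHom ≤
          Subgroup.closure (Set.range fun a => τ a * a⁻¹) := by
        rw [MonoidHom.map_closure, Subgroup.closure_le]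
        rintro _ ⟨_, ⟨c, rfl⟩, rfl⟩
        exact Subgroup.subset_closure ⟨τ c, by simp⟩
      exact this (Subgroup.mem_map_of_mem _ hb)
    have hcom2 : ∀ a b : Q₂, ((⁅a, b⁆ : Q₂) : Q) ∈ commutator Q := fun a b => by
      rw [commutator_def]
      exact Subgroup.commutator_mem_commutator (Subgroup.mem_top (a : Q)) (Subgroup.mem_top (b : Q))
    have hfixcen : ∀ a, τ a = a → a ∈ Subgroup.center Q₂ := by
      intro a ha
      rw [Subgroup.mem_center_iff]
      intro b
      suffices (⊤ : Subgroup Q₂) ≤ Subgroup.centralizer ({a} : Set Q₂) from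
        Subgroup.mem_centralizer_singleton_iff.1 (this (Subgroup.mem_top b))
      rw [← hgen, Subgroup.closure_le]
      rintro _ ⟨c, rfl⟩
      rw [SetLike.mem_coe, Subgroup.mem_centralizer_singleton_iff, ← commutatorElement_eq_one_iff_mul_comm]
      have hc1 : ⁅τ c, a⁆ = ⁅c, a⁆ := by
        conv_lhs => rw [← ha, ← map_commutatorElement]
        exact Subtype.ext (hcomfix _ (hcom2 c a))
      have hzz : ∀ t : Q₂, t * ⁅c⁻¹, a⁆ = ⁅c⁻¹, a⁆ * t := fun t =>
        Subtype.ext (Subgroup.mem_center_iff.1 (hcl (hcom2 c⁻¹ a)) (t : Q))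
      have e1 : ⁅τ c * c⁻¹, a⁆ = τ c * ⁅c⁻¹, a⁆ * (τ c)⁻¹ * ⁅τ c, a⁆ := by
        simp only [commutatorElement_def]; group
      have e2 : c * ⁅c⁻¹, a⁆ * c⁻¹ = ⁅c, a⁆⁻¹ := by simp only [commutatorElement_def]; group
      rw [e1, hzz, mul_inv_cancel_right, hc1]
      rw [hzz, mul_inv_cancel_right] at e2
      rw [e2, inv_mul_cancel]
    have hdvd := orbit_dvd τ hqp (hQ.to_subgroup Q₂) hτp (Subgroup.center Q₂)
      (fun a => ⟨hfixcen a, hcenfix a⟩)
    haveI := Fintype.ofFinite Q₂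
    obtain ⟨θ₂, hθ₂⟩ := exists_restrict_constituent Q₂ θ
    have hcl₂ : commutator Q₂ ≤ Subgroup.center Q₂ := by
      rw [commutator_def, Subgroup.commutator_le]
      intro a _ b _
      rw [Subgroup.mem_center_iff]
      exact fun t => Subtype.ext (Subgroup.mem_center_iff.1 (hcl (hcom2 a b)) (t : Q))
    have hsq₂ := degree_sq_eq hcl₂ θ₂ (by
      intro c hc h1
      have hcQ : (c : Q) ∈ commutator Q := by
        have h := Subgroup.mem_map_of_mem Q₂.subtype hc
        rw [commutator_def, Subgroup.map_commutator] at h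
        rw [commutator_def]
        exact Subgroup.commutator_mono le_top le_top h
      refine Subtype.ext (hfaith (c : Q) ?_)
      have hc' : c ∈ Subgroup.center Q₂ := hcl₂ hc
      have key : ∑ y : Q₂, (θ₂ : Q₂ → ℂ) y * (starRingEnd ℂ) ((θ : Q → ℂ) ((c : Q) * y)) =
          ∑ y : Q₂, (θ₂ : Q₂ → ℂ) y * (starRingEnd ℂ) ((θ : Q → ℂ) y) := by
        refine Fintype.sum_equiv (Equiv.mulLeft c) _ _ fun y => ?_
        have h2 := center_mul θ₂.2 hc' y
        rw [h1] at h2
        show _ = (θ₂ : Q₂ → ℂ) (c * y) * (starRingEnd ℂ) ((θ : Q → ℂ) ((c : Q) * y))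
        rw [mul_left_cancel₀ (apply_one_ne_zero θ₂.2) h2]
      have hθc : ∀ y : Q₂, (θ : Q → ℂ) ((c : Q) * y) = (θ : Q → ℂ) c / (θ : Q → ℂ) 1 * (θ : Q → ℂ) y := by
        intro y
        rw [div_mul_eq_mul_div, eq_div_iff (apply_one_ne_zero θ.2), ← center_mul θ.2 (hcl hcQ) (y : Q)]
        ring
      simp only [hθc, map_mul, mul_left_comm ((θ₂ : Q₂ → ℂ) _), ← Finset.mul_sum] at key
      have hne0 : ∑ y : Q₂, (θ₂ : Q₂ → ℂ) y * (starRingEnd ℂ) ((θ : Q → ℂ) y) ≠ 0 := fun h0 => hθ₂ (by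
        rw [classInner_eq, h0, mul_zero])
      have h3 := (starRingEnd ℂ).injective ((mul_eq_right₀ hne0).1 key |>.trans (map_one _).symm)
      rwa [div_eq_one_iff_eq (apply_one_ne_zero θ.2)] at h3)
    rw [← hsq₂] at hdvd
    obtain ⟨i₂, hi₂⟩ := IsPGroup.iff_card.1 (hQ.to_subgroup Q₂)
    obtain ⟨k, -, hk⟩ := (Nat.dvd_prime_pow (Fact.out : q.Prime)).1 (hi₂ ▸ degree_dvd θ₂)
    rw [hk] at hdvd
    have hle : Cfsg.charDegree (θ₂ : Q₂ → ℂ) ≤ Cfsg.charDegree (θ : Q → ℂ) := by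
      have h := sum_degree_le (isCharacter_restrict (isCharacter_of_irr θ.2) Q₂) {θ₂} (fun η hη => by
        rw [Finset.mem_singleton.1 hη, classInner_comm, Ne, map_eq_zero]
        exact hθ₂)
      rw [Finset.sum_singleton] at h
      exact h
    have hk0 : 0 < k := by
      rcases Nat.eq_zero_or_pos k with rfl | h
      · exfalso
        rw [hk, pow_zero, one_pow, eq_comm, Subgroup.index_eq_one] at hsq₂
        obtain ⟨x, y, hxy⟩ := hab
        exact hxy (Subgroup.mem_center_iff.1 (hsq₂ ▸ Subgroup.mem_top y) x)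
      · exact h
    rw [hk, hm] at hle
    refine good_of_sq_sub_one (Fact.out : p.Prime) (Fact.out : q.Prime) hk0 ?_ hdvd
    rw [hm]
    exact Nat.pow_dvd_pow q ((Nat.pow_le_pow_iff_right (Fact.out : q.Prime).one_lt).1 hle)

end CfsgLib.LinGroup
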