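import Mathlib
import Cfsg.Agent.LinGroup.Solvable
import Cfsg.Agent.Hall.SylowNormalizersComplement
import Cfsg.Agent.Clifford.Ito

/-!
The reduction to a class two normal subgroup.
-/

set_option autoImplicit false
set_option linter.style.haveILetI false

namespace CfsgLib.LinGroup

open CfsgLib.CharBasics
open scoped commutatorElement

universe u

section

variable {G : Type u} [Group G] [Finite G] [Group.IsSolvable G] {p : ℕ} [Fact p.Prime] (P : Sylow p G)
  (hgen : ∀ N : Subgroup G, N.Normal → (P : Subgroup G) ≤ N → N = ⊤)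

include hgen in
/-- A proper subgroup whose index divides the degree. -/
theorem good_of_index {n : ℕ} (hpn : ¬ p ∣ n) (T : Subgroup G) (hT : T ≠ ⊤) (hdvd : T.index ∣ n) : Good n p := by
  classical
  have hp : p.Prime := Fact.out
  obtain ⟨U, hU, hTU⟩ := (eq_top_or_exists_le_coatom T).resolve_left hT
  have hUn : U.index ∣ n := (Subgroup.index_dvd_of_le hTU).trans hdvd
  set C := U.normalCore with hC
  set f := QuotientGroup.mk' C with hf
  have hfs : Function.Surjective f := QuotientGroup.mk'_surjective C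
  have hker : f.ker ≤ U := by rw [hf, QuotientGroup.ker_mk']; exact U.normalCore_le
  set Ub := U.map f with hUb
  have hidx : Ub.index = U.index := Subgroup.index_map_eq U hfs hker
  have hUbtop : Ub ≠ ⊤ := fun h => hU.1 (Subgroup.index_eq_one.1 (by rw [← hidx, h, Subgroup.index_top]))
  have hcomap : Ub.comap f = U := by rw [hUb, Subgroup.comap_map_eq, sup_eq_left.2 hker]
  have hUbmax : IsCoatom Ub := ⟨hUbtop, fun L hL => by
    have hlt : U < L.comap f := hcomap.symm.trans_lt ((Subgroup.comap_lt_comap_of_surjective hfs).2 hL)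
    rw [← Subgroup.map_comap_eq_self_of_surjective hfs L, hU.2 _ hlt, Subgroup.map_top_of_surjective _ hfs]⟩
  have hcore : ∀ N : Subgroup (G ⧸ C), N.Normal → N ≤ Ub → N = ⊥ := by
    intro N hN hNU
    have h1 : N.comap f ≤ C := by
      haveI := hN
      exact Subgroup.normal_le_normalCore.2 ((Subgroup.comap_mono hNU).trans hcomap.le)
    rw [← Subgroup.map_comap_eq_self_of_surjective hfs N, eq_bot_iff, ← QuotientGroup.map_mk'_self (N := C)]
    exact Subgroup.map_mono h1
  haveI : Group.IsSolvable (G ⧸ C) := Group.isSolvable_of_surjective hfs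
  haveI : Nontrivial (G ⧸ C) :=
    QuotientGroup.nontrivial_iff.2 fun h => hU.1 (top_le_iff.1 (h ▸ U.normalCore_le))
  obtain ⟨V, hV⟩ := CfsgLib.Hall.exists_isMinNormal (G := G ⧸ C)
  haveI hVn := hV.1
  obtain ⟨q, hq, hVab, hVq, hVexp⟩ := hV.elementaryAbelian
  haveI := Fact.mk hq
  have hVU : ¬ V ≤ Ub := fun h => hV.2.1 (hcore V hV.1 h)
  have hsup : V ⊔ Ub = ⊤ := hUbmax.2 _ (lt_of_le_of_ne le_sup_right fun h => hVU (h ▸ le_sup_left))
  have hinfn : (V ⊓ Ub).Normal := by
    refine ⟨fun x hx g => ?_⟩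
    obtain ⟨v, hv, w, hw, rfl⟩ := Subgroup.mem_sup_of_normal_left.1 (hsup ▸ Subgroup.mem_top g : g ∈ V ⊔ Ub)
    refine ⟨hVn.conj_mem x hx.1 _, ?_⟩
    have h1 : w * x * w⁻¹ ∈ V := hVn.conj_mem x hx.1 w
    have hcm : v * (w * x * w⁻¹) = (w * x * w⁻¹) * v :=
      congrArg Subtype.val (mul_comm' (⟨v, hv⟩ : V) ⟨_, h1⟩)
    rw [show v * w * x * (v * w)⁻¹ = v * (w * x * w⁻¹) * v⁻¹ by group, hcm, mul_inv_cancel_right]
    exact Ub.mul_mem (Ub.mul_mem hw hx.2) (Ub.inv_mem hw)
  have hinf : V ⊓ Ub = ⊥ := hcore _ hinfn inf_le_right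
  have hVcard : Nat.card V = U.index := by
    rw [← hidx]
    exact ((Subgroup.isComplement'_of_disjoint_and_mul_eq_univ (disjoint_iff.2 hinf)
      (by rw [← Subgroup.coe_mul_of_right_le_normalizer_left V Ub, hsup, Subgroup.coe_top]
          rw [Subgroup.normalizer_eq_top_iff.2 hVn]
          exact le_top))).index_eq_card.symm
  obtain ⟨j, hj⟩ := IsPGroup.iff_card.1 hVq
  have hj0 : 0 < j := Nat.pos_of_ne_zero fun h => hV.2.1 (Subgroup.card_eq_one.1 (by rw [hj, h, pow_zero]))
  have hqp : q ≠ p := by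
    rintro rfl
    exact hpn ((dvd_pow_self q hj0.ne').trans (hj ▸ hVcard ▸ hUn))
  -- the centralizer of `V` is `V`
  have hCV : Subgroup.centralizer (V : Set (G ⧸ C)) ≤ V := by
    set D := Subgroup.centralizer (V : Set (G ⧸ C))
    haveI hDn : D.Normal := Subgroup.normal_centralizer
    have hDU : (D ⊓ Ub).Normal := by
      refine ⟨fun x hx g => ?_⟩
      obtain ⟨v, hv, w, hw, rfl⟩ := Subgroup.mem_sup_of_normal_left.1 (hsup ▸ Subgroup.mem_top g : g ∈ V ⊔ Ub)
      refine ⟨hDn.conj_mem x hx.1 _, ?_⟩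
      have hcm := Subgroup.mem_centralizer_iff.1 (hDn.conj_mem x hx.1 w) v hv
      rw [show v * w * x * (v * w)⁻¹ = v * (w * x * w⁻¹) * v⁻¹ by group, hcm, mul_inv_cancel_right]
      exact Ub.mul_mem (Ub.mul_mem hw hx.2) (Ub.inv_mem hw)
    have hDU' := hcore _ hDU inf_le_right
    intro c hc
    obtain ⟨v, hv, w, hw, rfl⟩ := Subgroup.mem_sup_of_normal_left.1 (hsup ▸ Subgroup.mem_top c : c ∈ V ⊔ Ub)
    have hvD : v ∈ D := Subgroup.mem_centralizer_iff.2 fun t ht =>
      congrArg Subtype.val (mul_comm' (⟨t, ht⟩ : V) ⟨v, hv⟩)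
    have hwD : w ∈ D := by simpa using D.mul_mem (D.inv_mem hvD) hc
    have : w = 1 := (Subgroup.eq_bot_iff_forall _).1 hDU' w ⟨hwD, hw⟩
    rw [this, mul_one]
    exact hv
  obtain ⟨x, hx, hxV⟩ : ∃ x ∈ (P : Subgroup G), f x ∉ Subgroup.centralizer (V : Set (G ⧸ C)) := by
    by_contra hc
    push Not at hc
    have hPC : (P : Subgroup G) ≤ C := by
      intro x hx
      obtain ⟨k, hk⟩ := P.2 ⟨x, hx⟩
      have hk' : x ^ p ^ k = 1 := congrArg Subtype.val hk
      have hfx := hCV (hc x hx)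
      have h1 : orderOf (f x) ∣ p ^ k := orderOf_dvd_of_pow_eq_one (by rw [← map_pow, hk', map_one])
      have h2 : orderOf (f x) ∣ q ^ j := hj ▸ Subgroup.orderOf_dvd_natCard V hfx
      have h3 : orderOf (f x) = 1 := Nat.eq_one_of_dvd_coprimes
        (((Nat.coprime_primes hp hq).2 hqp.symm).pow k j) h1 h2
      exact (QuotientGroup.eq_one_iff x).1 (orderOf_eq_one_iff.1 h3)
    exact hU.1 (top_le_iff.1 (hgen C inferInstance hPC ▸ U.normalCore_le))
  -- an automorphism of order `p`
  set σ₀ : MulAut V := MulAut.conjNormal (f x) with hσ₀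
  obtain ⟨k, hk⟩ := P.2 ⟨x, hx⟩
  have hk' : x ^ p ^ k = 1 := congrArg Subtype.val hk
  obtain ⟨b, -, hb⟩ := (Nat.dvd_prime_pow hp).1
    (orderOf_dvd_of_pow_eq_one (show σ₀ ^ p ^ k = 1 by rw [hσ₀, ← map_pow, ← map_pow, hk', map_one, map_one]))
  have hb0 : b ≠ 0 := fun h => hxV (by
    rw [h, pow_zero, orderOf_eq_one_iff] at hb
    refine Subgroup.mem_centralizer_iff.2 fun v hv => ?_
    have h1 := congrArg Subtype.val (DFunLike.congr_fun hb (⟨v, hv⟩ : V))
    rw [hσ₀, MulAut.conjNormal_apply, MulAut.one_apply, mul_inv_eq_iff_eq_mul] at h1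
    exact h1.symm)
  set σ := σ₀ ^ p ^ (b - 1) with hσ
  have hσord : orderOf σ = p := by
    rw [hσ, orderOf_pow' _ (pow_ne_zero _ hp.ne_zero), hb,
      Nat.gcd_eq_right (Nat.pow_dvd_pow p (Nat.sub_le b 1)), Nat.pow_div (Nat.sub_le b 1) hp.pos,
      show b - (b - 1) = 1 by omega, pow_one]
  have hσp : ∀ a, (σ ^ p) a = a := fun a => by
    have := pow_orderOf_eq_one σ
    rw [hσord] at this
    rw [this, MulAut.one_apply]
  have hσne : ∃ a, σ a ≠ a := by
    by_contra hc
    push Not at hc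
    have : σ = 1 := MulEquiv.ext hc
    rw [this, orderOf_one] at hσord
    exact hp.ne_one hσord.symm
  obtain ⟨A, hA, -, hdvdA⟩ := exists_free σ hqp hVq (fun a b => mul_comm' a b) hσp hσne
  obtain ⟨i, hi⟩ := IsPGroup.iff_card.1 (hVq.to_subgroup A)
  have hi0 : 0 < i := Nat.pos_of_ne_zero fun h => hA (Subgroup.card_eq_one.1 (by rw [hi, h, pow_zero]))
  refine good_of_sub_one hq hi0 ?_ (hi ▸ hdvdA)
  exact hi ▸ (Subgroup.card_subgroup_dvd_card A).trans (hVcard ▸ hUn)

variable [Fintype G] {χ : G → ℂ} (hχ : Cfsg.IsIrrCharacter G χ) (hpn : ¬ p ∣ Cfsg.charDegree χ)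

include hgen hχ hpn in
/-- Either the constituents on a normal subgroup are invariant or the conclusion holds. -/
theorem invariant_or_good (N : Subgroup G) [N.Normal] [Fintype N] {θ : N → ℂ} (hθ : Cfsg.IsIrrCharacter N θ)
    (hne : Cfsg.classInner (fun a : N => χ a) θ ≠ 0) :
    (∀ g : G, CfsgLib.Clifford.conjFun g θ = θ) ∨ Good (Cfsg.charDegree χ) p := by
  by_cases hT : CfsgLib.Clifford.inertia θ = ⊤
  · exact Or.inl fun g => CfsgLib.Clifford.mem_inertia.1 (hT ▸ Subgroup.mem_top g)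
  refine Or.inr (good_of_index P hgen hpn _ hT ?_)
  obtain ⟨e, he⟩ := classInner_characters_nat (isCharacter_restrict (isCharacter_of_irr hχ) N)
    (isCharacter_of_irr hθ)
  have h := CfsgLib.Clifford.restrict_one_eq hχ hθ hne
  rw [he, apply_one (isCharacter_of_irr hχ), apply_one (isCharacter_of_irr hθ)] at h
  have h' : Cfsg.charDegree χ = e * (CfsgLib.Clifford.inertia θ).index * Cfsg.charDegree θ := by exact_mod_cast h
  exact ⟨e * Cfsg.charDegree θ, by rw [h']; ring⟩

variable (hfaith : ∀ g, χ g = χ 1 → g = 1)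

include hgen hχ hpn hfaith in
/-- An abelian normal subgroup is central, or the conclusion holds. -/
theorem central_or_good (A : Subgroup G) [A.Normal] (hab : ∀ a ∈ A, ∀ b ∈ A, a * b = b * a) :
    A ≤ Subgroup.center G ∨ Good (Cfsg.charDegree χ) p := by
  classical
  by_cases hg : Good (Cfsg.charDegree χ) p
  · exact Or.inr hg
  refine Or.inl fun a ha => Subgroup.mem_center_iff.2 fun g => ?_
  haveI := Fintype.ofFinite A
  haveI : IsMulCommutative A := ⟨⟨fun x y => Subtype.ext (hab x x.2 y y.2)⟩⟩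
  have hmem : g * a * g⁻¹ * a⁻¹ ∈ A := A.mul_mem ((inferInstance : A.Normal).conj_mem a ha g) (A.inv_mem ha)
  have h1 := apply_eq_of_constituents (a := (⟨_, hmem⟩ : A))
    (isClassFunction (isCharacter_restrict (isCharacter_of_irr hχ) A)) fun θ hθ => by
      have hinv := ((invariant_or_good P hgen hχ hpn A θ.2 hθ).resolve_right hg) g
      obtain ⟨h1, hmul⟩ := irr_comm_hom θ.2
      have h2 : (θ : A → ℂ) ⟨g * a * g⁻¹, (inferInstance : A.Normal).conj_mem a ha g⟩ = (θ : A → ℂ) ⟨a, ha⟩ :=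
        congrFun hinv ⟨a, ha⟩
      have he : (⟨_, hmem⟩ : A) = ⟨g * a * g⁻¹, (inferInstance : A.Normal).conj_mem a ha g⟩ * (⟨a, ha⟩ : A)⁻¹ :=
        Subtype.ext rfl
      rw [he, hmul, h2, ← hmul, mul_inv_cancel]
  have h2 : g * a * g⁻¹ * a⁻¹ = 1 := hfaith _ h1
  rwa [mul_inv_eq_one, mul_inv_eq_iff_eq_mul] at h2

include hgen hχ hpn hfaith in
/-- The case where the Sylow subgroup generates. -/
theorem good_of_gen (hP : ¬ (P : Subgroup G).Normal) : Good (Cfsg.charDegree χ) p := by
  classical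
  by_contra hg
  have hp : p.Prime := Fact.out
  have hcentralClosure : ∀ D : Subgroup G, D.Normal → D ≤ Subgroup.centralizer ((P : Subgroup G) : Set G) →
      D ≤ Subgroup.center G := fun D hD hle => by
    haveI := hD
    have htop := hgen (Subgroup.centralizer (D : Set G)) Subgroup.normal_centralizer
      (Subgroup.le_centralizer_iff.1 hle)
    intro d hd
    rw [Subgroup.mem_center_iff]
    intro g
    exact (Subgroup.mem_centralizer_iff.1 (htop ▸ Subgroup.mem_top g : g ∈ Subgroup.centralizer (D : Set G)) d hd).symm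
  -- some normal `q`-subgroup is moved by `P`
  obtain ⟨q, hq, hQ₁⟩ : ∃ q, q.Prime ∧ ¬ Cfsg.pCore q G ≤ Subgroup.centralizer ((P : Subgroup G) : Set G) := by
    by_contra hc
    push Not at hc
    apply hP
    have hF : Cfsg.fittingSubgroup G ≤ Subgroup.centralizer ((P : Subgroup G) : Set G) := by
      rw [CfsgLib.Components.fittingSubgroup_eq_iSup]
      exact iSup_le fun r => hc r (Nat.prime_of_mem_primeFactors r.2)
    have hPF : (P : Subgroup G) ≤ Cfsg.fittingSubgroup G :=
      (Subgroup.le_centralizer_iff.1 hF).trans CfsgLib.Hall.centralizer_fitting_le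
    haveI := CfsgLib.Components.fittingSubgroup_normal (G := G)
    have hPn := CfsgLib.Hall.NormComplement.sylow_normal_of_nilpotent CfsgLib.Components.fittingSubgroup_isNilpotent p
      (P.subtype hPF)
    haveI := (P.subtype hPF).characteristic_of_normal hPn
    have h : (((P.subtype hPF : Sylow p (Cfsg.fittingSubgroup G)) : Subgroup (Cfsg.fittingSubgroup G)).map
        (Cfsg.fittingSubgroup G).subtype).Normal := inferInstance
    rwa [Sylow.coe_subtype, Subgroup.map_subgroupOf_eq_of_le hPF] at h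
  haveI := Fact.mk hq
  haveI := CfsgLib.PCore.pCore_characteristic q G
  have hqp : q ≠ p := by
    intro hqp
    set A := Cfsg.pCore q G
    haveI := Fintype.ofFinite A
    obtain ⟨i, hi⟩ := IsPGroup.iff_card.1 (CfsgLib.PCore.isPGroup_pCore q G)
    have hab : ∀ a ∈ A, ∀ b ∈ A, a * b = b * a := by
      intro a ha b hb
      set x : A := ⟨a, ha⟩
      set y : A := ⟨b, hb⟩
      have h := apply_eq_of_constituents (a := x * y * x⁻¹ * y⁻¹)
        (isClassFunction (isCharacter_restrict (isCharacter_of_irr hχ) A)) fun θ hθ => by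
          have hlin : Cfsg.charDegree (θ : A → ℂ) = 1 := by
            obtain ⟨e, he⟩ := classInner_characters_nat (isCharacter_restrict (isCharacter_of_irr hχ) A)
              (isCharacter_of_irr θ.2)
            have h := CfsgLib.Clifford.restrict_one_eq hχ θ.2 hθ
            rw [he, apply_one (isCharacter_of_irr hχ), apply_one (isCharacter_of_irr θ.2)] at h
            have h' : Cfsg.charDegree χ = e * (CfsgLib.Clifford.inertia (θ : A → ℂ)).index *
                Cfsg.charDegree (θ : A → ℂ) := by exact_mod_cast h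
            obtain ⟨k, -, hk⟩ := (Nat.dvd_prime_pow hq).1 (hi ▸ degree_dvd θ)
            rcases k with _ | k
            · rw [hk, pow_zero]
            · exfalso
              refine hpn ?_
              rw [h', hk, ← hqp, pow_succ]
              exact (dvd_mul_left q _).mul_left _
          simp only [← linHomOf_apply θ hlin]
          rw [map_mul, map_mul, map_mul, mul_assoc (linHomOf θ hlin x * linHomOf θ hlin y), mul_mul_mul_comm,
            ← map_mul, ← map_mul, mul_inv_cancel, mul_inv_cancel, map_one, one_mul]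
      have h' : a * b * a⁻¹ * b⁻¹ = 1 := hfaith _ h
      rwa [mul_inv_eq_one, mul_inv_eq_iff_eq_mul] at h'
    exact hQ₁ (((central_or_good P hgen hχ hpn hfaith A hab).resolve_right hg).trans
      (Subgroup.center_le_centralizer _))
  obtain ⟨Q, ⟨hQn, hQle, hQP⟩, hmin⟩ := (Set.toFinite {Q : Subgroup G | Q.Normal ∧ Q ≤ Cfsg.pCore q G ∧
      ¬ Q ≤ Subgroup.centralizer ((P : Subgroup G) : Set G)}).exists_minimal
    ⟨_, inferInstance, le_rfl, hQ₁⟩
  haveI := hQn
  haveI := Fintype.ofFinite Q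
  have hQq : IsPGroup q Q := (CfsgLib.PCore.isPGroup_pCore q G).to_le hQle
  have hQne : Q ≠ ⊥ := fun h => hQP (h ▸ bot_le)
  -- the derived subgroup is central
  have hQ' : ⁅Q, Q⁆ < Q := Group.IsSolvable.commutator_lt_of_ne_bot hQne
  have hQ'c : ⁅Q, Q⁆ ≤ Subgroup.center G := hcentralClosure _ inferInstance (by
    by_contra h
    exact hQ'.not_ge (hmin (y := ⁅Q, Q⁆) ⟨inferInstance, hQ'.le.trans hQle, h⟩ hQ'.le))
  have hcl : commutator Q ≤ Subgroup.center Q := by
    intro c hc
    rw [Subgroup.mem_center_iff]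
    intro t
    have h := Subgroup.mem_map_of_mem Q.subtype hc
    rw [Subgroup.map_subtype_commutator] at h
    exact Subtype.ext (Subgroup.mem_center_iff.1 (hQ'c h) (t : G))
  -- the centre is central
  have hZc : (Subgroup.center Q).map Q.subtype ≤ Subgroup.center G :=
    (central_or_good P hgen hχ hpn hfaith _ (by
      rintro _ ⟨a, ha, rfl⟩ _ ⟨b, -, rfl⟩
      exact congrArg Subtype.val (Subgroup.mem_center_iff.1 ha b).symm)).resolve_right hg
  obtain ⟨θ, hθ'⟩ := exists_restrict_constituent Q ⟨χ, hχ⟩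
  have hθ : Cfsg.classInner (fun a : Q => χ a) (θ : Q → ℂ) ≠ 0 := by
    rw [classInner_comm, Ne, map_eq_zero]
    exact hθ'
  have hinv := (invariant_or_good P hgen hχ hpn Q θ.2 hθ).resolve_right hg
  have hres := CfsgLib.Clifford.restrict_eq_smul_of_invariant hχ θ.2 hinv hθ
  have hθfaith : ∀ a, (θ : Q → ℂ) a = (θ : Q → ℂ) 1 → a = 1 := fun a ha => Subtype.ext (hfaith _ (by
    have h1 := congrFun hres a
    have h2 := congrFun hres 1
    simp only [Pi.smul_apply, ha] at h1 h2
    exact h1.trans h2.symm))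
  have hθdvd : Cfsg.charDegree (θ : Q → ℂ) ∣ Cfsg.charDegree χ := by
    obtain ⟨e, he⟩ := classInner_characters_nat (isCharacter_restrict (isCharacter_of_irr hχ) Q)
      (isCharacter_of_irr θ.2)
    have h := congrFun hres 1
    simp only [Pi.smul_apply, smul_eq_mul, OneMemClass.coe_one, he] at h
    rw [apply_one (isCharacter_of_irr hχ), apply_one (isCharacter_of_irr θ.2)] at h
    exact ⟨e, by rw [mul_comm]; exact_mod_cast h⟩
  obtain ⟨x, hx, hxQ⟩ : ∃ x ∈ (P : Subgroup G), ¬ Q ≤ Subgroup.centralizer ({x} : Set G) := by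
    by_contra hc
    push Not at hc
    exact hQP fun a ha => Subgroup.mem_centralizer_iff.2 fun t ht =>
      (Subgroup.mem_centralizer_singleton_iff.1 (hc t ht ha)).symm
  obtain ⟨k, hk⟩ := P.2 ⟨x, hx⟩
  have hk' : x ^ p ^ k = 1 := congrArg Subtype.val hk
  set σ₀ : MulAut Q := MulAut.conjNormal x with hσ₀
  obtain ⟨b, -, hb⟩ := (Nat.dvd_prime_pow hp).1
    (orderOf_dvd_of_pow_eq_one (show σ₀ ^ p ^ k = 1 by rw [hσ₀, ← map_pow, hk', map_one]))
  have hb0 : b ≠ 0 := fun h => hxQ fun v hv => by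
    rw [h, pow_zero, orderOf_eq_one_iff] at hb
    have h1 := congrArg Subtype.val (DFunLike.congr_fun hb (⟨v, hv⟩ : Q))
    rw [hσ₀, MulAut.conjNormal_apply, MulAut.one_apply, mul_inv_eq_iff_eq_mul] at h1
    exact Subgroup.mem_centralizer_singleton_iff.2 h1.symm
  set σ := σ₀ ^ p ^ (b - 1) with hσ
  have hσord : orderOf σ = p := by
    rw [hσ, orderOf_pow' _ (pow_ne_zero _ hp.ne_zero), hb,
      Nat.gcd_eq_right (Nat.pow_dvd_pow p (Nat.sub_le b 1)), Nat.pow_div (Nat.sub_le b 1) hp.pos,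
      show b - (b - 1) = 1 by omega, pow_one]
  have hσp : ∀ a, (σ ^ p) a = a := fun a => by
    have := pow_orderOf_eq_one σ
    rw [hσord] at this
    rw [this, MulAut.one_apply]
  have hσne : ∃ a, σ a ≠ a := by
    by_contra hc
    push Not at hc
    have : σ = 1 := MulEquiv.ext hc
    rw [this, orderOf_one] at hσord
    exact hp.ne_one hσord.symm
  have hfixZ : ∀ z ∈ Subgroup.center Q, σ z = z := by
    intro z hz
    have hzc : (z : G) ∈ Subgroup.center G := hZc (Subgroup.mem_map_of_mem Q.subtype hz)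
    refine Subtype.ext ?_
    rw [hσ, hσ₀, ← map_pow, MulAut.conjNormal_apply, Subgroup.mem_center_iff.1 hzc]
    exact mul_inv_cancel_right _ _
  exact hg ((good_classTwo σ hqp hQq hcl hfixZ hσp hσne θ hθfaith).of_dvd hθdvd)

end

/-- The theorem. -/
theorem good_aux (p : ℕ) [Fact p.Prime] : ∀ (k : ℕ) (G : Type u) [Group G] [Fintype G] [Group.IsSolvable G],
    Nat.card G = k → ∀ χ : G → ℂ, Cfsg.IsIrrCharacter G χ → (∀ g, χ g = χ 1 → g = 1) →
      ∀ P : Sylow p G, ¬ (P : Subgroup G).Normal → Good (Cfsg.charDegree χ) p := by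
  intro k
  induction k using Nat.strong_induction_on with
  | _ k ih =>
  intro G _ _ _ hk χ hχ hfaith P hP
  classical
  have hp : p.Prime := Fact.out
  by_cases hpn : p ∣ Cfsg.charDegree χ
  · exact good_of_self hp hpn
  by_cases hgen : ∀ N : Subgroup G, N.Normal → (P : Subgroup G) ≤ N → N = ⊤
  · exact good_of_gen P hgen hχ hpn hfaith hP
  push Not at hgen
  obtain ⟨H, hHn, hPH, hHtop⟩ := hgen
  haveI := hHn
  haveI := Fintype.ofFinite H
  by_contra hg
  apply hP
  obtain ⟨m, hm⟩ := IsPGroup.iff_card.1 (P.subtype hPH).2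
  set PH := P.subtype hPH with hPHdef
  -- the image of the Sylow subgroup in every constituent is normal
  have hnorm : ∀ θ : Cfsg.IrrCharacter H, Cfsg.classInner (fun a : H => χ a) (θ : H → ℂ) ≠ 0 →
      ∀ a ∈ (PH : Subgroup H), ∀ h : H, ∃ t ∈ (PH : Subgroup H),
        (θ : H → ℂ) (h * a * h⁻¹ * t⁻¹) = (θ : H → ℂ) 1 := by
    intro θ hθ a ha h
    set N := charKer (θ : H → ℂ) (isCharacter_of_irr θ.2) with hN
    haveI : N.Normal := charKer_normal _
    obtain ⟨ψ, hψ⟩ := exists_quotient_irr θ N fun g hg => hg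
    set f := QuotientGroup.mk' N with hf
    have hfs : Function.Surjective f := QuotientGroup.mk'_surjective N
    haveI : Group.IsSolvable (H ⧸ N) := Group.isSolvable_of_surjective hfs
    haveI := Fintype.ofFinite (H ⧸ N)
    have hlt : Nat.card (H ⧸ N) < k := by
      refine lt_of_le_of_lt (Nat.card_le_card_of_surjective f hfs) ?_
      rw [← hk]
      exact lt_of_le_of_ne (Subgroup.card_le_card_group H) fun h => hHtop (Subgroup.eq_top_of_card_eq H h)
    have hd : Cfsg.charDegree (ψ : H ⧸ N → ℂ) = Cfsg.charDegree (θ : H → ℂ) := by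
      rw [← @Nat.cast_inj ℂ, ← apply_one (isCharacter_of_irr ψ.2), ← apply_one (isCharacter_of_irr θ.2)]
      exact hψ 1
    have hdvd : Cfsg.charDegree (θ : H → ℂ) ∣ Cfsg.charDegree χ := by
      obtain ⟨e, he⟩ := classInner_characters_nat (isCharacter_restrict (isCharacter_of_irr hχ) H)
        (isCharacter_of_irr θ.2)
      have h1 := CfsgLib.Clifford.restrict_one_eq hχ θ.2 hθ
      rw [he, apply_one (isCharacter_of_irr hχ), apply_one (isCharacter_of_irr θ.2)] at h1
      have h2 : Cfsg.charDegree χ = e * (CfsgLib.Clifford.inertia (θ : H → ℂ)).index *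
          Cfsg.charDegree (θ : H → ℂ) := by exact_mod_cast h1
      exact ⟨_, h2.trans (mul_comm _ _)⟩
    have hPn : ((PH.mapSurjective hfs : Sylow p (H ⧸ N)) : Subgroup (H ⧸ N)).Normal := by
      by_contra hPn
      refine hg ((ih _ hlt (H ⧸ N) rfl (ψ : H ⧸ N → ℂ) ψ.2 (fun g hg' => ?_) _ hPn).of_dvd (hd ▸ hdvd))
      obtain ⟨g, rfl⟩ := hfs g
      refine (QuotientGroup.eq_one_iff g).2 ((mem_charKer _ _).2 ?_)
      rw [← hψ g, ← hψ 1]
      exact hg'
    have hmem : f (h * a * h⁻¹) ∈ (PH : Subgroup H).map f := by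
      rw [map_mul, map_mul, map_inv]
      exact hPn.conj_mem _ (Subgroup.mem_map_of_mem f ha) _
    obtain ⟨t, ht, hte⟩ := hmem
    refine ⟨t, ht, (mem_charKer (isCharacter_of_irr θ.2) _).1 ((QuotientGroup.eq_one_iff _).1 ?_)⟩
    show f (h * a * h⁻¹ * t⁻¹) = 1
    rw [map_mul _ _ t⁻¹, map_inv, hte, mul_inv_cancel]
  -- elements congruent to the Sylow subgroup in every constituent
  let S : Subgroup H :=
    { carrier := {x | ∀ θ : Cfsg.IrrCharacter H, Cfsg.classInner (fun a : H => χ a) (θ : H → ℂ) ≠ 0 →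
        ∃ t ∈ (PH : Subgroup H), x * t⁻¹ ∈ charKer (θ : H → ℂ) (isCharacter_of_irr θ.2)}
      one_mem' := fun θ _ => ⟨1, one_mem _, by simp⟩
      mul_mem' := fun {x y} hx hy θ hθ => by
        obtain ⟨s, hs, hs'⟩ := hx θ hθ
        obtain ⟨t, ht, ht'⟩ := hy θ hθ
        refine ⟨s * t, mul_mem hs ht, ?_⟩
        haveI := charKer_normal (isCharacter_of_irr θ.2)
        have e : x * y * (s * t)⁻¹ = x * (y * t⁻¹) * x⁻¹ * (x * s⁻¹) := by group
        rw [e]
        exact mul_mem ((inferInstance : (charKer (θ : H → ℂ) _).Normal).conj_mem _ ht' x) hs'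
      inv_mem' := fun {x} hx θ hθ => by
        obtain ⟨s, hs, hs'⟩ := hx θ hθ
        refine ⟨s⁻¹, inv_mem hs, ?_⟩
        haveI := charKer_normal (isCharacter_of_irr θ.2)
        have e : x⁻¹ * s⁻¹⁻¹ = x⁻¹ * (x * s⁻¹)⁻¹ * x⁻¹⁻¹ := by group
        rw [e]
        exact (inferInstance : (charKer (θ : H → ℂ) _).Normal).conj_mem _ (inv_mem hs') x⁻¹ }
  have hSp : IsPGroup p S := by
    intro x
    refine ⟨m, Subtype.ext (Subtype.ext (hfaith _ (apply_eq_of_constituents (a := (x : H) ^ p ^ m)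
      (isClassFunction (isCharacter_restrict (isCharacter_of_irr hχ) H)) fun θ hθ => ?_)))⟩
    obtain ⟨t, ht, ht'⟩ := x.2 θ hθ
    set N := charKer (θ : H → ℂ) (isCharacter_of_irr θ.2) with hN
    haveI : N.Normal := charKer_normal _
    have h1 : QuotientGroup.mk' N (x : H) = QuotientGroup.mk' N t := by
      rw [← mul_inv_eq_one, ← map_inv, ← map_mul]
      exact (QuotientGroup.eq_one_iff _).2 ht'
    have h2 : t ^ p ^ m = 1 := orderOf_dvd_iff_pow_eq_one.1 (hm ▸ Subgroup.orderOf_dvd_natCard _ ht)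
    refine (mem_charKer (isCharacter_of_irr θ.2) _).1 ((QuotientGroup.eq_one_iff _).1 ?_)
    show QuotientGroup.mk' N ((x : H) ^ p ^ m) = 1
    rw [map_pow, h1, ← map_pow, h2, map_one]
  have hle : (PH : Subgroup H) ≤ S := fun a ha θ _ => ⟨a, ha, by simp⟩
  have hSeq : S = (PH : Subgroup H) := PH.3 hSp hle
  have hPHn : (PH : Subgroup H).Normal := ⟨fun a ha h => by
    rw [← hSeq]
    intro θ hθ
    obtain ⟨t, ht, ht'⟩ := hnorm θ hθ a ha h
    exact ⟨t, ht, ht'⟩⟩
  haveI := PH.characteristic_of_normal hPHn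
  have hfin : ((PH : Subgroup H).map H.subtype).Normal := inferInstance
  rwa [hPHdef, Sylow.coe_subtype, Subgroup.map_subgroupOf_eq_of_le hPH] at hfin

end CfsgLib.LinGroup
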